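import Groth.Agent.TorusUnits.Basic
import Mathlib.Algebra.Polynomial.Eval.Defs
import Mathlib.Algebra.Polynomial.Eval.Coeff
import Mathlib.AlgebraicGeometry.Gluing

/-! # Units on `X × 𝔾_mⁿ`: the global statement -/

universe u

open CategoryTheory CategoryTheory.Limits AlgebraicGeometry

namespace Groth.Agent.TorusUnits

/-- The morphism to the affine line given by a global function. -/
noncomputable def toLine {P : Scheme.{u}} (a : Γ(P, ⊤)) :
    P ⟶ Spec (CommRingCat.of (ULift.{u} (Polynomial ℤ))) :=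
  P.toSpecΓ ≫ Spec.map (CommRingCat.ofHom
    ((Polynomial.eval₂RingHom (Int.castRingHom Γ(P, ⊤)) a).comp ULift.ringEquiv.toRingHom))

theorem toLine_appTop {P : Scheme.{u}} (a : Γ(P, ⊤)) (p : ULift.{u} (Polynomial ℤ)) :
    (toLine a).appTop ((Scheme.ΓSpecIso _).inv p) = p.down.eval₂ (Int.castRingHom Γ(P, ⊤)) a := by
  rw [toLine, Scheme.Hom.comp_appTop]
  show P.toSpecΓ.appTop ((Spec.map _).appTop _) = _
  rw [specMap_appTop, toSpecΓ_appTop_inv]
  rfl

theorem comp_toLine {P Q : Scheme.{u}} (f : Q ⟶ P) (a : Γ(P, ⊤)) :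
    f ≫ toLine a = toLine (f.appTop a) := by
  apply ext_Spec
  intro p
  rw [Scheme.Hom.comp_appTop]
  show f.appTop ((toLine a).appTop _) = _
  rw [toLine_appTop, toLine_appTop, Polynomial.hom_eval₂]
  congr 1
  exact Subsingleton.elim _ _

/-- Global functions which agree on an open cover are equal. -/
theorem ext_of_cover {P : Scheme.{u}} (𝒰 : P.OpenCover) {a b : Γ(P, ⊤)}
    (h : ∀ i, (𝒰.f i).appTop a = (𝒰.f i).appTop b) : a = b := by
  have hab : toLine a = toLine b :=
    Scheme.Cover.hom_ext 𝒰 _ _ fun i => by rw [comp_toLine, comp_toLine, h i]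
  have := congrArg (fun φ : P ⟶ _ => φ.appTop ((Scheme.ΓSpecIso _).inv (ULift.up Polynomial.X))) hab
  dsimp only at this
  rw [toLine_appTop, toLine_appTop] at this
  simpa using this

variable {X : Scheme.{u}} {n : ℕ}

theorem unitSection_chart {A : CommRingCat.{u}} (j : Spec A ⟶ X) :
    j ≫ unitSection X n =
      Spec.map (CommRingCat.ofHom (AddMonoidAlgebra.lift A A (Fin n → ℤ) 1).toRingHom) ≫ chart n j := by
  apply prod.hom_ext
  · rw [Category.assoc, unitSection_fst, Category.comp_id, Category.assoc, chart_fst, ← Category.assoc,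
      ← Spec.map_comp]
    have : CommRingCat.ofHom (AddMonoidAlgebra.singleZeroRingHom (R := A) (M := Fin n → ℤ)) ≫
        CommRingCat.ofHom (AddMonoidAlgebra.lift A A (Fin n → ℤ) 1).toRingHom = 𝟙 _ := by
      apply CommRingCat.hom_ext
      refine RingHom.ext fun a => ?_
      show (AddMonoidAlgebra.lift A A (Fin n → ℤ) 1) (AddMonoidAlgebra.single 0 a) = a
      simp
    rw [this, Spec.map_id]
    exact (Category.id_comp j).symm
  · rw [Category.assoc, Category.assoc, chart_snd, ← Spec.map_comp]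
    apply ext_Spec
    intro a
    rw [Scheme.Hom.comp_appTop, specMap_appTop, unitSection, prod.lift_snd, Scheme.Hom.comp_appTop]
    show j.appTop (X.toSpecΓ.appTop ((Spec.map _).appTop _)) = _
    rw [specMap_appTop, toSpecΓ_appTop_inv]
    show ((j.appTop.hom.comp (Int.castRingHom Γ(X, ⊤))).comp
      ((AddMonoidAlgebra.lift ℤ ℤ (Fin n → ℤ) 1).toRingHom.comp ULift.ringEquiv.toRingHom)) a =
      ((Scheme.ΓSpecIso A).inv.hom.comp
        ((AddMonoidAlgebra.lift A A (Fin n → ℤ) 1).toRingHom.comp (tau n A))) a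
    apply DFunLike.congr_fun
    apply TR_hom_ext
    intro e
    show j.appTop ((AddMonoidAlgebra.lift ℤ ℤ (Fin n → ℤ) 1 (AddMonoidAlgebra.single e 1) : Γ(X, ⊤))) =
      (Scheme.ΓSpecIso A).inv ((AddMonoidAlgebra.lift A A (Fin n → ℤ) 1) (tau n A (tpow n e)))
    rw [tau_tpow]
    simp

theorem coeff_eq {A : CommRingCat.{u}} (j : Spec A ⟶ X) {v : Γ(X ⨯ T.{u} n, ⊤)} {e : Fin n → ℤ} {a : A}
    (h : (chart n j).appTop v =
      (Scheme.ΓSpecIso (CommRingCat.of (AR n A))).inv (AddMonoidAlgebra.single e a)) :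
    (Scheme.ΓSpecIso A).hom (j.appTop ((unitSection X n).appTop v)) = a := by
  show (Scheme.ΓSpecIso A).hom (((unitSection X n).appTop ≫ j.appTop).hom v) = a
  rw [← Scheme.Hom.comp_appTop, unitSection_chart, Scheme.Hom.comp_appTop]
  show (Scheme.ΓSpecIso A).hom ((Spec.map _).appTop ((chart n j).appTop v)) = a
  rw [h, specMap_appTop]
  rw [CategoryTheory.Iso.inv_hom_id_apply]
  show (AddMonoidAlgebra.lift A A (Fin n → ℤ) 1) (AddMonoidAlgebra.single e a) = a
  simp

theorem isDomain_of_chart [IsIntegral X] {A : CommRingCat.{u}} (j : Spec A ⟶ X) [IsOpenImmersion j]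
    [Nonempty (Spec A)] : IsDomain A := by
  have := isIntegral_of_isOpenImmersion j
  exact (affine_isIntegral_iff A).mp this

theorem nontrivial_of_nonempty {A : CommRingCat.{u}} (h : Nonempty (Spec A)) : Nontrivial A := by
  obtain ⟨(x : PrimeSpectrum A)⟩ := h
  exact x.isPrime.ne_top |> fun h => not_subsingleton_iff_nontrivial.mp fun _ =>
    h (Subsingleton.elim _ _)

theorem exponent_eq [IsIntegral X] {A A' : CommRingCat.{u}} (j : Spec A ⟶ X) (j' : Spec A' ⟶ X)
    [IsOpenImmersion j] [IsOpenImmersion j'] (hA : Nonempty (Spec A)) (hA' : Nonempty (Spec A'))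
    {v : Γ(X ⨯ T.{u} n, ⊤)} (hv : IsUnit v) {e e' : Fin n → ℤ} {a : A} {a' : A'} (ha : IsUnit a)
    (h : (chart n j).appTop v =
      (Scheme.ΓSpecIso (CommRingCat.of (AR n A))).inv (AddMonoidAlgebra.single e a))
    (h' : (chart n j').appTop v =
      (Scheme.ΓSpecIso (CommRingCat.of (AR n A'))).inv (AddMonoidAlgebra.single e' a')) : e = e' := by
  obtain ⟨p⟩ := hA
  obtain ⟨p'⟩ := hA'
  obtain ⟨x, hx, hx'⟩ := nonempty_preirreducible_inter j.opensRange.isOpen j'.opensRange.isOpen
    ⟨j p, p, rfl⟩ ⟨j' p', p', rfl⟩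
  obtain ⟨_, ⟨W, hW, rfl⟩, hxW, hWsub⟩ := X.isBasis_affineOpens.exists_subset_of_mem_open
    (show x ∈ ((j.opensRange ⊓ j'.opensRange : X.Opens) : Set X) from ⟨hx, hx'⟩)
    (j.opensRange ⊓ j'.opensRange).isOpen
  have hW' : IsAffineOpen W := hW
  have hr : Set.range hW'.fromSpec ⊆ Set.range j := by
    rw [hW'.range_fromSpec]
    exact fun y hy => (hWsub hy).1
  have hr' : Set.range hW'.fromSpec ⊆ Set.range j' := by
    rw [hW'.range_fromSpec]
    exact fun y hy => (hWsub hy).2
  set φ := Spec.preimage (IsOpenImmersion.lift j hW'.fromSpec hr) with hφ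
  set φ' := Spec.preimage (IsOpenImmersion.lift j' hW'.fromSpec hr') with hφ'
  have hcomp : Spec.map φ ≫ j = hW'.fromSpec := by rw [hφ, Spec.map_preimage, IsOpenImmersion.lift_fac]
  have hcomp' : Spec.map φ' ≫ j' = hW'.fromSpec := by
    rw [hφ', Spec.map_preimage, IsOpenImmersion.lift_fac]
  have : Nonempty (W : X.Opens) := ⟨⟨x, hxW⟩⟩
  have : Nontrivial Γ(X, W) := inferInstance
  have e1 := chart_exponent φ j h
  have e2 := chart_exponent φ' j' h'
  rw [hcomp] at e1
  rw [hcomp'] at e2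
  have e3 := congrArg (Scheme.ΓSpecIso (CommRingCat.of (AR n Γ(X, W)))).hom (e1.symm.trans e2)
  have e4 : AddMonoidAlgebra.single e (φ a) = AddMonoidAlgebra.single e' (φ' a') := by
    rw [CategoryTheory.Iso.inv_hom_id_apply, CategoryTheory.Iso.inv_hom_id_apply] at e3
    exact e3
  rcases (Finsupp.single_eq_single_iff _ _ _ _).mp (congrArg AddMonoidAlgebra.coeff e4) with ⟨h1, -⟩ | ⟨h1, -⟩
  · exact h1
  · exact absurd h1 (ha.map φ.hom).ne_zero

theorem existsUnique_monomial [IsIntegral X] {v : Γ(X ⨯ T.{u} n, ⊤)} (hv : IsUnit v) :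
    ∃! p : (Γ(X, ⊤))ˣ × (Fin n → ℤ),
      v = (prod.fst : X ⨯ T.{u} n ⟶ X).appTop (p.1 : Γ(X, ⊤)) *
        (prod.snd : X ⨯ T.{u} n ⟶ T n).appTop
          ((Scheme.ΓSpecIso (CommRingCat.of (TR.{u} n))).inv (tpow n p.2)) := by
  obtain ⟨x⟩ : Nonempty X := inferInstance
  obtain ⟨p, hp⟩ := X.affineCover.covers x
  have hA₀ : Nonempty (X.affineCover.X (X.affineCover.idx x) : Scheme.{u}) := ⟨p⟩
  set i₀ := X.affineCover.idx x
  haveI : IsDomain (X.affineOpenCover.X i₀) :=
    haveI : Nonempty (Spec (X.affineOpenCover.X i₀)) := hA₀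
    isDomain_of_chart (X.affineOpenCover.f i₀)
  obtain ⟨e, a, ha, he⟩ := chart_unit (n := n) (X.affineOpenCover.f i₀) hv
  have hu : IsUnit ((unitSection X n).appTop v) := hv.map (unitSection X n).appTop.hom
  refine ⟨⟨hu.unit, e⟩, ?_, ?_⟩
  · dsimp only
    rw [IsUnit.unit_spec]
    refine ext_of_cover (X.affineOpenCover.openCover.pullback₁ prod.fst) fun i => ?_
    let q := (isPullback_chart (n := n) (X.affineOpenCover.f i)).isoPullback
    have hq : (X.affineOpenCover.openCover.pullback₁ (prod.fst : X ⨯ T.{u} n ⟶ X)).f i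
        = q.inv ≫ chart n (X.affineOpenCover.f i) :=
      ((Iso.inv_comp_eq q).mpr (IsPullback.isoPullback_hom_fst _).symm).symm
    rw [hq, Scheme.Hom.comp_appTop]
    show q.inv.appTop ((chart n _).appTop v) = q.inv.appTop ((chart n _).appTop _)
    congr 1
    rw [chart_appTop]
    by_cases hne : Nonempty (Spec (X.affineOpenCover.X i))
    · haveI := hne
      haveI := isDomain_of_chart (X.affineOpenCover.f i)
      obtain ⟨e', a', ha', he'⟩ := chart_unit (n := n) (X.affineOpenCover.f i) hv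
      rw [he', coeff_eq _ he',
        exponent_eq (X.affineOpenCover.f i₀) (X.affineOpenCover.f i) hA₀ hne hv ha he he']
    · have : Subsingleton (X.affineOpenCover.X i) := by
        refine not_nontrivial_iff_subsingleton.mp fun hnt => hne ?_
        exact (inferInstance : Nonempty (PrimeSpectrum (X.affineOpenCover.X i)))
      have : Subsingleton (AR n (X.affineOpenCover.X i)) :=
        AddMonoidAlgebra.coeff_injective.subsingleton
      obtain ⟨z, hz⟩ : ∃ z, (chart n (X.affineOpenCover.f i)).appTop v =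
          (Scheme.ΓSpecIso (CommRingCat.of (AR n (X.affineOpenCover.X i)))).inv z :=
        ⟨_, (congrArg (fun φ => φ.hom ((chart n (X.affineOpenCover.f i)).appTop v))
          (Scheme.ΓSpecIso (CommRingCat.of (AR n (X.affineOpenCover.X i)))).hom_inv_id).symm⟩
      rw [hz, Subsingleton.elim z (AddMonoidAlgebra.single e
        ((Scheme.ΓSpecIso (X.affineOpenCover.X i)).hom
          ((X.affineOpenCover.f i).appTop ((unitSection X n).appTop v))))]
  · rintro ⟨w, e'⟩ hw
    dsimp only at hw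
    have h1 : (chart n (X.affineOpenCover.f i₀)).appTop v =
        (Scheme.ΓSpecIso (CommRingCat.of (AR n (X.affineOpenCover.X i₀)))).inv
          (AddMonoidAlgebra.single e' ((Scheme.ΓSpecIso (X.affineOpenCover.X i₀)).hom
            ((X.affineOpenCover.f i₀).appTop (w : Γ(X, ⊤))))) := by
      rw [hw, chart_appTop]
    have hexp : e' = e := (exponent_eq (X.affineOpenCover.f i₀) (X.affineOpenCover.f i₀) hA₀ hA₀ hv ha
      he h1).symm
    refine Prod.ext (Units.ext ?_) hexp
    show (w : Γ(X, ⊤)) = (hu.unit : Γ(X, ⊤))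
    rw [IsUnit.unit_spec, hw, map_mul, unitSection_mon, mul_one]
    show _ = ((prod.fst : X ⨯ T.{u} n ⟶ X).appTop ≫ (unitSection X n).appTop).hom _
    rw [← Scheme.Hom.comp_appTop, unitSection_fst]
    rfl

end Groth.Agent.TorusUnits
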