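import Mathlib.AlgebraicGeometry.AffineScheme
import Mathlib.AlgebraicGeometry.OpenImmersion
import Mathlib.AlgebraicGeometry.Limits
import Mathlib.AlgebraicGeometry.Cover.Open
import Mathlib.AlgebraicGeometry.Properties
import Mathlib.Algebra.MonoidAlgebra.Basic
import Mathlib.Algebra.MonoidAlgebra.NoZeroDivisors
import Mathlib.Algebra.Group.UniqueProds.Basic
import Mathlib.CategoryTheory.Limits.Shapes.BinaryProducts
import Mathlib.Tactic.Abel

/-! # Units on `X × 𝔾_mⁿ` for an integral scheme `X` -/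

universe u

open CategoryTheory CategoryTheory.Limits AlgebraicGeometry

namespace Groth.Agent.TorusUnits

theorem isUnit_eq_single {A M : Type*} [CommRing A] [IsDomain A] [AddCommGroup M] [TwoUniqueSums M]
    {p : AddMonoidAlgebra A M} (hp : IsUnit p) : ∃ e a, IsUnit a ∧ p = AddMonoidAlgebra.single e a := by
  classical
  obtain ⟨q, hq⟩ := hp.exists_right_inv
  have hp0 : p ≠ 0 := by rintro rfl; simp at hq
  have hq0 : q ≠ 0 := by rintro rfl; simp at hq
  have hsp : p.coeff.support.Nonempty := Finsupp.support_nonempty_iff.mpr fun h => hp0 (AddMonoidAlgebra.coeff_injective (by simpa using h))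
  have hsq : q.coeff.support.Nonempty := Finsupp.support_nonempty_iff.mpr fun h => hq0 (AddMonoidAlgebra.coeff_injective (by simpa using h))
  by_cases hc : 1 < p.coeff.support.card * q.coeff.support.card
  · obtain ⟨p₁, hp₁, p₂, hp₂, hne, u₁, u₂⟩ := TwoUniqueSums.uniqueAdd_of_one_lt_card hc
    rw [Finset.mem_product] at hp₁ hp₂
    have key : ∀ (r : M × M), r.1 ∈ p.coeff.support → r.2 ∈ q.coeff.support →
        UniqueAdd p.coeff.support q.coeff.support r.1 r.2 → r.1 + r.2 = 0 := by
      intro r h1 h2 hu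
      by_contra h
      have hm := AddMonoidAlgebra.coeff_mul_add_of_uniqueAdd (f := p) (g := q) hu
      rw [hq] at hm
      have : (1 : AddMonoidAlgebra A M).coeff (r.1 + r.2) = 0 := by
        rw [AddMonoidAlgebra.one_def, AddMonoidAlgebra.coeff_single, Finsupp.single_eq_of_ne]
        exact h
      rw [this, eq_comm, mul_eq_zero] at hm
      rcases hm with hm | hm
      · exact Finsupp.mem_support_iff.mp h1 hm
      · exact Finsupp.mem_support_iff.mp h2 hm
    have e1 := key p₁ hp₁.1 hp₁.2 u₁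
    have e2 := key p₂ hp₂.1 hp₂.2 u₂
    obtain ⟨ha, hb⟩ := u₁ hp₂.1 hp₂.2 (e2.trans e1.symm)
    exact absurd (Prod.ext ha hb).symm hne
  · have h1 : p.coeff.support.card = 1 := by
      have := hsp.card_pos
      have := hsq.card_pos
      nlinarith
    have h2 : q.coeff.support.card = 1 := by
      have := hsp.card_pos
      have := hsq.card_pos
      nlinarith
    obtain ⟨e, a, ha0, ha⟩ := Finsupp.card_support_eq_one'.mp h1
    obtain ⟨f, b, hb0, hb⟩ := Finsupp.card_support_eq_one'.mp h2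
    have hpe : p = AddMonoidAlgebra.single e a :=
      AddMonoidAlgebra.coeff_injective (by rw [ha, AddMonoidAlgebra.coeff_single])
    have hqf : q = AddMonoidAlgebra.single f b :=
      AddMonoidAlgebra.coeff_injective (by rw [hb, AddMonoidAlgebra.coeff_single])
    rw [hpe, hqf, AddMonoidAlgebra.single_mul_single] at hq
    have hq' := congrArg AddMonoidAlgebra.coeff hq
    rw [AddMonoidAlgebra.one_def, AddMonoidAlgebra.coeff_single, AddMonoidAlgebra.coeff_single,
      Finsupp.single_eq_single_iff] at hq'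
    rcases hq' with ⟨-, hab⟩ | ⟨-, h⟩
    · exact ⟨e, a, IsUnit.of_mul_eq_one b hab, hpe⟩
    · exact absurd h one_ne_zero

variable (n : ℕ)

/-- The coordinate ring of the torus. -/
abbrev TR : Type u := ULift.{u} (AddMonoidAlgebra ℤ (Fin n → ℤ))

/-- The torus. -/
noncomputable abbrev T : Scheme.{u} := Spec (CommRingCat.of (TR.{u} n))

/-- A monomial in the torus coordinate ring. -/
noncomputable def tpow (e : Fin n → ℤ) : TR.{u} n := ULift.up (AddMonoidAlgebra.single e 1)

theorem tpow_mul (e f : Fin n → ℤ) : tpow.{u} n e * tpow n f = tpow n (e + f) := by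
  ext1
  show AddMonoidAlgebra.single e (1 : ℤ) * AddMonoidAlgebra.single f 1 = AddMonoidAlgebra.single (e + f) 1
  rw [AddMonoidAlgebra.single_mul_single, mul_one]

theorem tpow_zero : tpow.{u} n 0 = 1 := by
  ext1
  show AddMonoidAlgebra.single (0 : Fin n → ℤ) (1 : ℤ) = 1
  rw [AddMonoidAlgebra.one_def]

theorem TR_hom_ext {S : Type*} [CommRing S] {f g : TR.{u} n →+* S}
    (h : ∀ e, f (tpow n e) = g (tpow n e)) : f = g := by
  have : f.comp ULift.ringEquiv.symm.toRingHom = g.comp ULift.ringEquiv.symm.toRingHom :=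
    AddMonoidAlgebra.ringHom_ext (fun z => by
        rw [show AddMonoidAlgebra.single (0 : Fin n → ℤ) z = (z : AddMonoidAlgebra ℤ (Fin n → ℤ)) by
          simp [AddMonoidAlgebra.intCast_def], map_intCast, map_intCast])
      (fun e => h e)
  ext x
  exact DFunLike.congr_fun this x.down

variable {n}
variable (A : CommRingCat.{u})

/-- The coordinate ring of `Spec A × T`. -/
abbrev AR (n : ℕ) (A : CommRingCat.{u}) : Type u := AddMonoidAlgebra A (Fin n → ℤ)

/-- The map from the torus coordinate ring. -/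
noncomputable def tau (n : ℕ) (A : CommRingCat.{u}) : TR.{u} n →+* AR n A :=
  (AddMonoidAlgebra.mapRingHom (Fin n → ℤ) (Int.castRingHom A)).comp ULift.ringEquiv.toRingHom

theorem tau_tpow (e : Fin n → ℤ) : tau n A (tpow n e) = AddMonoidAlgebra.single e 1 := by
  show AddMonoidAlgebra.mapRingHom (Fin n → ℤ) (Int.castRingHom A) (AddMonoidAlgebra.single e 1) = _
  rw [AddMonoidAlgebra.mapRingHom_single, map_one]

theorem specMap_appTop {R S : CommRingCat.{u}} (f : R ⟶ S) (a : R) :
    (Spec.map f).appTop ((Scheme.ΓSpecIso R).inv a) = (Scheme.ΓSpecIso S).inv (f a) := by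
  exact (congrArg (fun φ => φ.hom a) (Scheme.ΓSpecIso_inv_naturality f)).symm

theorem toSpecΓ_appTop_inv (Z : Scheme.{u}) (a : Γ(Z, ⊤)) :
    Z.toSpecΓ.appTop ((Scheme.ΓSpecIso Γ(Z, ⊤)).inv a) = a := by
  rw [Scheme.toSpecΓ_appTop]
  exact congrArg (fun φ => φ.hom a) (Scheme.ΓSpecIso Γ(Z, ⊤)).inv_hom_id

theorem ext_Spec {Z : Scheme.{u}} {R : CommRingCat.{u}} {f g : Z ⟶ Spec R}
    (h : ∀ a, f.appTop ((Scheme.ΓSpecIso R).inv a) = g.appTop ((Scheme.ΓSpecIso R).inv a)) : f = g := by
  apply ext_of_isAffine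
  apply (cancel_epi (Scheme.ΓSpecIso R).inv).mp
  ext a
  exact h a

variable {X : Scheme.{u}} {A}

/-- The chart of `X × T` above a map `Spec A → X`. -/
noncomputable def chart (n : ℕ) (j : Spec A ⟶ X) : Spec (CommRingCat.of (AR n A)) ⟶ X ⨯ T n :=
  prod.lift (Spec.map (CommRingCat.ofHom AddMonoidAlgebra.singleZeroRingHom) ≫ j)
    (Spec.map (CommRingCat.ofHom (tau n A)))

theorem chart_fst (j : Spec A ⟶ X) : chart n j ≫ prod.fst =
    Spec.map (CommRingCat.ofHom AddMonoidAlgebra.singleZeroRingHom) ≫ j := prod.lift_fst _ _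

theorem chart_snd (j : Spec A ⟶ X) : chart n j ≫ prod.snd =
    Spec.map (CommRingCat.ofHom (tau n A)) := prod.lift_snd _ _

/-- Monomials as global functions of `X × T`, as a monoid hom. -/
noncomputable def monHom {Z : Scheme.{u}} (b : Z ⟶ T n) : Multiplicative (Fin n → ℤ) →* Γ(Z, ⊤) where
  toFun e := b.appTop ((Scheme.ΓSpecIso (CommRingCat.of (TR.{u} n))).inv (tpow n e.toAdd))
  map_one' := by
    show b.appTop ((Scheme.ΓSpecIso (CommRingCat.of (TR.{u} n))).inv (tpow n 0)) = 1
    rw [tpow_zero, map_one, map_one]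
  map_mul' e f := by
    show b.appTop ((Scheme.ΓSpecIso (CommRingCat.of (TR.{u} n))).inv (tpow n (e.toAdd + f.toAdd))) = _
    rw [← tpow_mul, map_mul, map_mul]

theorem isPullback_chart (j : Spec A ⟶ X) :
    IsPullback (chart n j) (Spec.map (CommRingCat.ofHom AddMonoidAlgebra.singleZeroRingHom))
      (prod.fst : X ⨯ T.{u} n ⟶ X) j := by
  let h : ∀ s : PullbackCone (prod.fst : X ⨯ T.{u} n ⟶ X) j, AR n A →+* Γ(s.pt, ⊤) := fun s =>
    AddMonoidAlgebra.liftNCRingHom (s.snd.appTop.hom.comp (Scheme.ΓSpecIso A).inv.hom)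
      (monHom (s.fst ≫ prod.snd)) (fun _ _ => mul_comm _ _)
  have hsingle : ∀ s e a, h s (AddMonoidAlgebra.single e a) =
      s.snd.appTop ((Scheme.ΓSpecIso A).inv a) * monHom (s.fst ≫ prod.snd) (Multiplicative.ofAdd e) :=
    fun s e a => AddMonoidAlgebra.liftNCRingHom_single _ _ _ _ _
  let L : ∀ s : PullbackCone (prod.fst : X ⨯ T.{u} n ⟶ X) j, s.pt ⟶ Spec (CommRingCat.of (AR n A)) :=
    fun s => s.pt.toSpecΓ ≫ Spec.map (CommRingCat.ofHom (h s))
  have hL : ∀ s x, (L s).appTop ((Scheme.ΓSpecIso (CommRingCat.of (AR n A))).inv x) = h s x := by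
    intro s x
    show ((s.pt.toSpecΓ ≫ Spec.map (CommRingCat.ofHom (h s))).appTop) _ = _
    rw [Scheme.Hom.comp_appTop]
    show s.pt.toSpecΓ.appTop ((Spec.map (CommRingCat.ofHom (h s))).appTop _) = _
    rw [specMap_appTop]
    exact toSpecΓ_appTop_inv _ _
  have hι : ∀ s, L s ≫ Spec.map (CommRingCat.ofHom AddMonoidAlgebra.singleZeroRingHom) = s.snd := by
    intro s
    apply ext_Spec
    intro a
    rw [Scheme.Hom.comp_appTop]
    show (L s).appTop ((Spec.map _).appTop _) = _
    rw [specMap_appTop, hL]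
    show h s (AddMonoidAlgebra.single 0 a) = _
    rw [hsingle, ofAdd_zero, map_one, mul_one]
    rfl
  have hτ : ∀ s, L s ≫ Spec.map (CommRingCat.ofHom (tau n A)) = s.fst ≫ prod.snd := by
    intro s
    apply ext_Spec
    intro a
    rw [Scheme.Hom.comp_appTop]
    show (L s).appTop ((Spec.map _).appTop _) = _
    rw [specMap_appTop, hL]
    show ((h s).comp (tau n A)) a = ((s.fst ≫ prod.snd).appTop.hom.comp
      (Scheme.ΓSpecIso (CommRingCat.of (TR.{u} n))).inv.hom) a
    apply DFunLike.congr_fun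
    apply TR_hom_ext
    intro e
    rw [RingHom.comp_apply, tau_tpow, hsingle, map_one, map_one, one_mul]
    rfl
  refine IsPullback.of_isLimit' ⟨chart_fst j⟩ (PullbackCone.IsLimit.mk _ L ?_ hι ?_)
  · intro s
    apply prod.hom_ext
    · rw [Category.assoc, chart_fst, reassoc_of% hι]
      exact s.condition.symm
    · rw [Category.assoc, chart_snd, hτ]
  · intro s m hm₁ hm₂
    apply ext_Spec
    intro x
    rw [hL]
    show (m.appTop.hom.comp (Scheme.ΓSpecIso (CommRingCat.of (AR n A))).inv.hom) x = h s x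
    apply DFunLike.congr_fun
    apply AddMonoidAlgebra.ringHom_ext
    · intro a
      have := congrArg (fun φ : s.pt ⟶ Spec A => φ.appTop ((Scheme.ΓSpecIso A).inv a)) hm₂
      rw [hsingle, ofAdd_zero, map_one, mul_one, ← this]
      show _ = (m ≫ _).appTop _
      rw [Scheme.Hom.comp_appTop]
      show _ = m.appTop ((Spec.map _).appTop _)
      erw [specMap_appTop]
      rfl
    · intro e
      rw [hsingle, map_one, map_one, one_mul, show monHom (s.fst ≫ prod.snd) (Multiplicative.ofAdd e)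
        = (s.fst ≫ prod.snd).appTop ((Scheme.ΓSpecIso _).inv (tpow n e)) from rfl, ← hm₁,
        Category.assoc, chart_snd, Scheme.Hom.comp_appTop]
      show _ = m.appTop ((Spec.map _).appTop _)
      rw [specMap_appTop]
      exact congrArg (fun z => m.appTop.hom ((Scheme.ΓSpecIso (CommRingCat.of (AR n A))).inv.hom z))
        (tau_tpow A e).symm

variable (X) in
/-- The unit section of `X × T → X`. -/
noncomputable def unitSection (n : ℕ) : X ⟶ X ⨯ T n :=
  prod.lift (𝟙 X) (X.toSpecΓ ≫ Spec.map (CommRingCat.ofHom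
    ((Int.castRingHom Γ(X, ⊤)).comp ((AddMonoidAlgebra.lift ℤ ℤ (Fin n → ℤ) 1).toRingHom.comp
      ULift.ringEquiv.toRingHom))))

theorem unitSection_fst : unitSection X n ≫ prod.fst = 𝟙 X := prod.lift_fst _ _

theorem unitSection_mon (e : Fin n → ℤ) :
    (unitSection X n).appTop ((prod.snd : X ⨯ T.{u} n ⟶ T n).appTop
      ((Scheme.ΓSpecIso (CommRingCat.of (TR.{u} n))).inv (tpow n e))) = 1 := by
  show ((prod.snd : X ⨯ T.{u} n ⟶ T n).appTop ≫ (unitSection X n).appTop).hom _ = 1
  rw [← Scheme.Hom.comp_appTop, unitSection, prod.lift_snd, Scheme.Hom.comp_appTop]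
  show X.toSpecΓ.appTop ((Spec.map _).appTop _) = 1
  rw [specMap_appTop, toSpecΓ_appTop_inv]
  show ((AddMonoidAlgebra.lift ℤ ℤ (Fin n → ℤ) 1) (AddMonoidAlgebra.single e 1) : Γ(X, ⊤)) = 1
  simp

/-- Pulling back a product of a function of `X` and a monomial to a chart. -/
theorem chart_appTop (j : Spec A ⟶ X) (u₀ : Γ(X, ⊤)) (e : Fin n → ℤ) :
    (chart n j).appTop ((prod.fst : X ⨯ T.{u} n ⟶ X).appTop u₀ *
      (prod.snd : X ⨯ T.{u} n ⟶ T n).appTop
        ((Scheme.ΓSpecIso (CommRingCat.of (TR.{u} n))).inv (tpow n e))) =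
    (Scheme.ΓSpecIso (CommRingCat.of (AR n A))).inv
      (AddMonoidAlgebra.single e ((Scheme.ΓSpecIso A).hom (j.appTop u₀))) := by
  rw [map_mul]
  show ((prod.fst : X ⨯ T.{u} n ⟶ X).appTop ≫ (chart n j).appTop).hom u₀ *
    ((prod.snd : X ⨯ T.{u} n ⟶ T n).appTop ≫ (chart n j).appTop).hom _ = _
  rw [← Scheme.Hom.comp_appTop, ← Scheme.Hom.comp_appTop, chart_fst, chart_snd, Scheme.Hom.comp_appTop]
  show (Spec.map _).appTop (j.appTop u₀) * (Spec.map _).appTop _ = _
  have hj : j.appTop u₀ = (Scheme.ΓSpecIso A).inv ((Scheme.ΓSpecIso A).hom (j.appTop u₀)) :=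
    (congrArg (fun φ => φ.hom (j.appTop u₀)) (Scheme.ΓSpecIso A).hom_inv_id).symm
  conv_lhs => rw [hj]
  rw [specMap_appTop, specMap_appTop, ← map_mul]
  congr 1
  show AddMonoidAlgebra.single 0 _ * tau n A (tpow n e) = _
  rw [tau_tpow, AddMonoidAlgebra.single_mul_single, zero_add, mul_one]

/-- Functoriality of charts. -/
theorem chart_comp {B : CommRingCat.{u}} (φ : A ⟶ B) (j : Spec A ⟶ X) :
    Spec.map (CommRingCat.ofHom (AddMonoidAlgebra.mapRingHom (Fin n → ℤ) φ.hom)) ≫ chart n j =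
      chart n (Spec.map φ ≫ j) := by
  apply prod.hom_ext
  · rw [Category.assoc, chart_fst, chart_fst, ← Category.assoc, ← Category.assoc, ← Spec.map_comp,
      ← Spec.map_comp]
    congr 2
    apply CommRingCat.hom_ext
    refine RingHom.ext fun a => ?_
    exact AddMonoidAlgebra.mapRingHom_single (R := A) (S := B) (M := Fin n → ℤ) φ.hom 0 a
  · rw [Category.assoc, chart_snd, chart_snd, ← Spec.map_comp]
    congr 1
    apply CommRingCat.hom_ext
    apply TR_hom_ext
    intro e
    show AddMonoidAlgebra.mapRingHom (Fin n → ℤ) φ.hom (tau n A (tpow n e)) = tau n B (tpow n e)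
    rw [tau_tpow, tau_tpow, AddMonoidAlgebra.mapRingHom_single, map_one]

/-- On a chart over a domain, a unit is a monomial with a unit coefficient. -/
theorem chart_unit [IsDomain A] (j : Spec A ⟶ X) {v : Γ(X ⨯ T.{u} n, ⊤)} (hv : IsUnit v) :
    ∃ e a, IsUnit a ∧ (chart n j).appTop v =
      (Scheme.ΓSpecIso (CommRingCat.of (AR n A))).inv (AddMonoidAlgebra.single e a) := by
  obtain ⟨e, a, ha, h⟩ := isUnit_eq_single
    ((hv.map (chart n j).appTop.hom).map (Scheme.ΓSpecIso (CommRingCat.of (AR n A))).hom.hom)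
  refine ⟨e, a, ha, ?_⟩
  rw [← h]
  exact (congrArg (fun φ => φ.hom ((chart n j).appTop v))
    (Scheme.ΓSpecIso (CommRingCat.of (AR n A))).hom_inv_id).symm

theorem chart_exponent {B : CommRingCat.{u}} [Nontrivial B] (φ : A ⟶ B) (j : Spec A ⟶ X)
    {v : Γ(X ⨯ T.{u} n, ⊤)} {e : Fin n → ℤ} {a : A}
    (h : (chart n j).appTop v = (Scheme.ΓSpecIso (CommRingCat.of (AR n A))).inv (AddMonoidAlgebra.single e a)) :
    (chart n (Spec.map φ ≫ j)).appTop v =
      (Scheme.ΓSpecIso (CommRingCat.of (AR n B))).inv (AddMonoidAlgebra.single e (φ a)) := by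
  rw [← chart_comp, Scheme.Hom.comp_appTop]
  show (Spec.map _).appTop ((chart n j).appTop v) = _
  rw [h, specMap_appTop]
  congr 1
  exact AddMonoidAlgebra.mapRingHom_single _ _ _

end Groth.Agent.TorusUnits
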